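import Groth.Prelude.Def_AdFn

/-! Elements of `K` are dense in `K_v`. -/

set_option autoImplicit false
universe u

namespace AdFnApproxLib

variable {k K : Type u} [Field k] [Field K] [Algebra k K] (v : FunFld.Place k K)

theorem exists_sub_mem (x : AdFn.Kv v) : ∃ y : K, x - AdFn.toKv v y ∈ AdFn.Ov v := by
  have hopen : IsOpen {z : AdFn.Kv v | x - z ∈ (AdFn.Ov v : Set (AdFn.Kv v))} :=
    (AdFn.isOpen_Ov v).preimage (continuous_const.sub continuous_id)
  obtain ⟨w, hw⟩ := UniformSpace.Completion.denseRange_coe.exists_mem_open hopen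
    ⟨x, show x - x ∈ AdFn.Ov v by rw [sub_self]; exact zero_mem _⟩
  exact ⟨w.ofVal, hw⟩

theorem smul_mem_Ov (c : k) {x : AdFn.Kv v} (hx : x ∈ AdFn.Ov v) : c • x ∈ AdFn.Ov v := by
  rw [Algebra.smul_def, IsScalarTower.algebraMap_apply k K (AdFn.Kv v)]
  exact mul_mem ((AdFn.toKv_mem_Ov v _).2 (v.2.1 c)) hx

theorem mem_span_Ov {x : AdFn.Kv v} (hx : x ∈ Submodule.span k (AdFn.Ov v : Set (AdFn.Kv v))) : x ∈ AdFn.Ov v := by
  induction hx using Submodule.span_induction with
  | mem x h => exact h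
  | zero => exact zero_mem _
  | add x y _ _ hx hy => exact add_mem hx hy
  | smul c x _ hx => exact smul_mem_Ov v c hx

end AdFnApproxLib
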